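import Cfsg.Agent.H730.OZ.Defs
import Cfsg.Agent.Characters.Core
import Cfsg.Agent.H732.VZ.Div
import Cfsg.Prelude.Def_Classification2

/-!
# S4842: transport of rows and the final assembly (helper730)
-/

set_option autoImplicit false

open Cfsg Cfsg.Agent.Characters

namespace Cfsg.Agent.H730.OZ

universe u v

theorem isConj_map_iff {G : Type u} {H : Type v} [Group G] [Group H] (e : G ≃* H) (a b : G) :
    IsConj (e a) (e b) ↔ IsConj a b := by
  constructor
  · intro h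
    obtain ⟨c, hc⟩ := isConj_iff.1 h
    refine isConj_iff.2 ⟨e.symm c, ?_⟩
    apply e.injective
    rw [map_mul, map_mul, map_inv, e.apply_symm_apply, hc]
  · intro h
    obtain ⟨c, hc⟩ := isConj_iff.1 h
    exact isConj_iff.2 ⟨e c, by rw [← hc]; simp⟩

/-- `OneZero` is transported along isomorphisms. -/
theorem OneZero.comp {G : Type u} {H : Type v} [Group G] [Group H] (e : G ≃* H) {χ : G → ℂ}
    (h : OneZero χ) : OneZero (χ ∘ e.symm) := by
  obtain ⟨x, hx0, hx⟩ := h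
  refine ⟨e x, by simpa using hx0, fun y hy => ?_⟩
  have h1 := hx (e.symm y) hy
  have h2 := (isConj_map_iff e x (e.symm y)).2 h1
  rwa [e.apply_symm_apply] at h2

/-- The row predicate is transported along isomorphisms. -/
theorem Row.congr {G : Type u} {H : Type v} [Group G] [Group H] [Finite G] [Finite H] (e : G ≃* H)
    (h : Row H) : Row G := by
  intro χ hχ h0
  have hχ' : IsIrrCharacter H (χ ∘ e.symm) := Core.isIrr_comp e.symm.toMonoidHom e.symm.surjective hχ
  have hd : charDegree (χ ∘ e.symm) = charDegree χ := by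
    have h1 : ((charDegree (χ ∘ e.symm) : ℕ) : ℂ) = (χ ∘ e.symm) 1 :=
      H686.CharKit.charDegree_cast (Core.isIrr_isCharacter hχ')
    have h2 : ((charDegree χ : ℕ) : ℂ) = χ 1 := H686.CharKit.charDegree_cast (Core.isIrr_isCharacter hχ)
    have h3 : (χ ∘ e.symm) 1 = χ 1 := by simp
    rw [h3, ← h2] at h1
    exact_mod_cast h1
  rcases h _ hχ' (h0.comp e) with ⟨F, i1, i2, hF, ⟨f⟩, hdeg⟩ | ⟨F, i1, i2, hF, ⟨f⟩, hdeg⟩ |
      ⟨F, i1, i2, a, ha, hF, ⟨f⟩, hdeg⟩
  · exact Or.inl ⟨F, i1, i2, hF, ⟨e.trans f⟩, hd ▸ hdeg⟩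
  · exact Or.inr (Or.inl ⟨F, i1, i2, hF, ⟨e.trans f⟩, hd ▸ hdeg⟩)
  · exact Or.inr (Or.inr ⟨F, i1, i2, a, ha, hF, ⟨e.trans f⟩, hd ▸ hdeg⟩)

/-- A group without characters vanishing on exactly one class. -/
theorem Row.of_none {G : Type u} [Group G] [Finite G]
    (h : ∀ χ : G → ℂ, IsIrrCharacter G χ → ¬ OneZero χ) : Row G := fun χ hχ h0 => absurd h0 (h χ hχ)

/-- From the row predicate to the conclusion of S4842. -/
theorem Row.concl {G : Type u} [Group G] [Finite G] (h : Row G) (χ : IrrCharacter G)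
    (hχ : Nat.card {C : ConjClasses G // ∃ g ∈ C.carrier, (χ : G → ℂ) g = 0} = 1) :
    Concl G (χ : G → ℂ) := by
  obtain ⟨x, hx⟩ := H732.VZ.exists_one χ hχ
  exact h _ χ.2 ⟨x, hx.zero, hx.uniq⟩

end Cfsg.Agent.H730.OZ
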