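import Cfsg.Agent.Characters.Core
import Cfsg.Prelude.Def_Blocks
import Mathlib.LinearAlgebra.Matrix.ProjectiveSpecialLinearGroup

/-!
# S4842 (irreducible character of a simple group vanishing on exactly one class): interface (helper730)

* `OneZero χ`  : `χ` vanishes on exactly one conjugacy class.
* `Concl G χ`  : the conclusion of S4842.
* `Row G`      : every irreducible character of `G` vanishing on exactly one class satisfies `Concl`.
* `pSet p G`   : the set of `p`-elements of `G`.
* `Kaw p G`    : for every irreducible character `χ` the sum of `χ` over the `p`-elements is `± p^m χ(1)`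
                 (groups of Lie type in characteristic `p`), and there are `|G|_p ^ 2` `p`-elements.
-/

set_option autoImplicit false

open Cfsg

namespace Cfsg.Agent.H730.OZ

universe u

/-- `χ` vanishes on exactly one conjugacy class. -/
def OneZero {G : Type u} [Group G] (χ : G → ℂ) : Prop := ∃ x : G, χ x = 0 ∧ ∀ y : G, χ y = 0 → IsConj x y

/-- The conclusion of S4842. -/
def Concl (G : Type u) [Group G] [Finite G] (χ : G → ℂ) : Prop :=
  (∃ (F : Type) (_ : Field F) (_ : Fintype F), Fintype.card F = 5 ∧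
      Nonempty (G ≃* Matrix.ProjectiveSpecialLinearGroup (Fin 2) F) ∧ Cfsg.charDegree χ = 3) ∨
    (∃ (F : Type) (_ : Field F) (_ : Fintype F), Fintype.card F = 7 ∧
      Nonempty (G ≃* Matrix.ProjectiveSpecialLinearGroup (Fin 2) F) ∧ Cfsg.charDegree χ = 3) ∨
    (∃ (F : Type) (_ : Field F) (_ : Fintype F) (a : ℕ), 2 ≤ a ∧ Fintype.card F = 2 ^ a ∧
      Nonempty (G ≃* Matrix.ProjectiveSpecialLinearGroup (Fin 2) F) ∧ Cfsg.charDegree χ = 2 ^ a)

/-- The row predicate: `S4842` holds for `G`. -/
def Row (G : Type u) [Group G] [Finite G] : Prop :=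
  ∀ χ : G → ℂ, IsIrrCharacter G χ → OneZero χ → Concl G χ

/-- The set of `p`-elements. -/
def pSet (p : ℕ) (G : Type u) [Group G] : Set G := {u | ∃ k : ℕ, orderOf u = p ^ k}

/-- The Kawanaka property in characteristic `p`. -/
structure Kaw (p : ℕ) (G : Type u) [Group G] : Prop where
  sum : ∀ χ : G → ℂ, IsIrrCharacter G χ → ∃ (m : ℕ) (e : ℤ), (e = 1 ∨ e = -1) ∧
    ∑ᶠ u ∈ pSet p G, χ u = (e : ℂ) * (p : ℂ) ^ m * χ 1
  card : (pSet p G).ncard = p ^ (2 * (Nat.card G).factorization p)

end Cfsg.Agent.H730.OZ
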