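import Cfsg.Agent.H730.OZ.Defs
import Cfsg.Agent.S0961
import Cfsg.Agent.S0165
import Cfsg.Agent.Characters.SchurBound
import Cfsg.Agent.Characters.Brauer
import Cfsg.Agent.H686.CharKit
import Cfsg.Agent.Characters.CentralCharacter

/-!
# S4842: the extreme cases and the closing criterion

* `frob` : the sum of an irreducible character over the `p`-elements is divisible by `|G|_p`.
* `Cong p r k G` : the congruence `e p^m ≡ p^k (mod r)` for the characters with exactly one class of zeros.
* `none_of_cong` : from `Kaw p G`, `¬ (p ^ (2 v) - 1 ∣ |G|)` and an arithmetic condition: no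
  irreducible character of the simple group `G` vanishes on exactly one class.
-/

set_option autoImplicit false

open Cfsg Cfsg.Agent.Characters Finset

namespace Cfsg.Agent.H730.OZ

universe u

variable {G : Type u} [Group G]

theorem mem_pSet_iff [Finite G] {p : ℕ} (hp : p.Prime) (x : G) :
    x ∈ pSet p G ↔ ∀ r ∈ (Nat.card G).primeFactors \ {p}, ¬ r ∣ orderOf x := by
  constructor
  · rintro ⟨k, hk⟩ r hr hd
    rw [mem_sdiff, mem_singleton] at hr
    rw [hk] at hd
    have hr1 : r.Prime := Nat.prime_of_mem_primeFactors hr.1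
    exact hr.2 ((Nat.prime_dvd_prime_iff_eq hr1 hp).1 (hr1.dvd_of_dvd_pow hd))
  · intro h
    refine ⟨(orderOf x).primeFactorsList.length, ?_⟩
    have h1 : ∀ r : ℕ, r.Prime → r ∣ orderOf x → r = p := by
      intro r hr hd
      by_contra hne
      refine h r ?_ hd
      rw [mem_sdiff, mem_singleton, Nat.mem_primeFactors]
      exact ⟨⟨hr, hd.trans (orderOf_dvd_natCard x), Nat.card_pos.ne'⟩, hne⟩
    exact Nat.eq_prime_pow_of_unique_prime_dvd (orderOf_pos x).ne' (fun {d} hd hdd => h1 d hd hdd)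

theorem gen_ind [Finite G] (S : Finset ℕ) (hS : ∀ r ∈ S, r.Prime) :
    IsGeneralizedCharacter G (fun x : G =>
      ∏ r ∈ S, if r ∣ orderOf x then (0 : ℂ) else ((r ^ (Nat.card G).factorization r : ℕ) : ℂ)) := by
  classical
  induction S using Finset.induction_on with
  | empty =>
    simp only [Finset.prod_empty]
    exact Brauer.isGeneralizedCharacter_of_isCharacter Core.isCharacter_one
  | insert r S hr ih =>
    have : Fact r.Prime := ⟨hS r (mem_insert_self _ _)⟩
    have h1 := S0961.result (G := G) r ⟨fun _ => 1, Core.isIrr_one⟩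
    have h2 := Brauer.isGeneralizedCharacter_mul h1 (ih fun s hs => hS s (mem_insert_of_mem hs))
    convert h2 using 1
    ext x
    rw [Finset.prod_insert hr]
    simp [Pi.mul_apply]


theorem finsum_pSet [Fintype G] (p : ℕ) (f : G → ℂ) [DecidablePred (· ∈ pSet p G)] :
    ∑ᶠ u ∈ pSet p G, f u = ∑ u ∈ univ.filter (· ∈ pSet p G), f u := by
  rw [finsum_mem_def, finsum_eq_sum_of_fintype, Finset.sum_filter]
  refine Finset.sum_congr rfl fun x _ => ?_
  rw [Set.indicator_apply]

/-- **Frobenius**: the sum of a character over the `p`-elements is divisible by `|G|_p`. -/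
theorem frob [Finite G] {p : ℕ} (hp : p.Prime) {χ : G → ℂ} (hχ : IsIrrCharacter G χ) :
    ∃ z : ℤ, ∑ᶠ u ∈ pSet p G, χ u = ((p ^ (Nat.card G).factorization p : ℕ) : ℂ) * z := by
  classical
  have := Fintype.ofFinite G
  set S := (Nat.card G).primeFactors \ {p} with hS
  have hSp : ∀ r ∈ S, r.Prime := fun r hr => Nat.prime_of_mem_primeFactors (mem_sdiff.1 hr).1
  obtain ⟨z, hz⟩ := SchurBound.exists_int_sum (Brauer.isGeneralizedCharacter_mul (gen_ind (G := G) S hSp)
    (Brauer.isGeneralizedCharacter_of_isCharacter (Core.isIrr_isCharacter hχ)))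
  set N : ℕ := ∏ r ∈ S, r ^ (Nat.card G).factorization r with hN
  have hval : ∀ x : G, (∏ r ∈ S, if r ∣ orderOf x then (0 : ℂ)
      else ((r ^ (Nat.card G).factorization r : ℕ) : ℂ)) = if x ∈ pSet p G then (N : ℂ) else 0 := by
    intro x
    split_ifs with h
    · rw [mem_pSet_iff hp] at h
      rw [Finset.prod_congr rfl fun r hr => if_neg (h r hr), hN]
      push_cast
      rfl
    · rw [mem_pSet_iff hp] at h
      push Not at h
      obtain ⟨r, hr, hd⟩ := h
      exact Finset.prod_eq_zero hr (if_pos hd)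
  have hNp : N * p ^ (Nat.card G).factorization p = Nat.card G := by
    by_cases hpG : p ∈ (Nat.card G).primeFactors
    · have h1 := Nat.prod_factorization_pow_eq_self (n := Nat.card G) Nat.card_pos.ne'
      rw [Finsupp.prod, Nat.support_factorization] at h1
      rw [hN, hS, mul_comm, ← Finset.prod_singleton (fun r => r ^ (Nat.card G).factorization r) p]
      conv_rhs => rw [← h1]
      rw [mul_comm, Finset.prod_sdiff (singleton_subset_iff.2 hpG)]
    · have h0 : (Nat.card G).factorization p = 0 := by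
        rw [← Finsupp.notMem_support_iff, Nat.support_factorization]
        exact hpG
      have h1 := Nat.prod_factorization_pow_eq_self (n := Nat.card G) Nat.card_pos.ne'
      rw [Finsupp.prod, Nat.support_factorization] at h1
      rw [h0, pow_zero, mul_one, hN, hS, Finset.sdiff_singleton_eq_erase, Finset.erase_eq_of_notMem hpG]
      exact h1
  refine ⟨z, ?_⟩
  rw [finsum_pSet]
  have h1 : ∑ x : G, ((fun x : G => ∏ r ∈ S, if r ∣ orderOf x then (0 : ℂ)
      else ((r ^ (Nat.card G).factorization r : ℕ) : ℂ)) * χ) x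
      = (N : ℂ) * ∑ u ∈ univ.filter (· ∈ pSet p G), χ u := by
    rw [Finset.mul_sum, Finset.sum_filter]
    refine Finset.sum_congr rfl fun x _ => ?_
    rw [Pi.mul_apply, hval x]
    split_ifs <;> simp
  rw [h1] at hz
  have hN0 : (N : ℂ) ≠ 0 := by
    have : N ≠ 0 := fun h => by
      rw [h, zero_mul] at hNp
      exact Nat.card_pos.ne' hNp.symm
    exact_mod_cast this
  have h2 : (Nat.card G : ℂ) = (N : ℂ) * ((p ^ (Nat.card G).factorization p : ℕ) : ℂ) := by
    exact_mod_cast hNp.symm
  rw [h2, mul_assoc] at hz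
  exact mul_left_cancel₀ hN0 hz

/-- The bound `m ≤ 2 v_p(|G|)` and the case of equality. -/
theorem Kaw.top [Finite G] {p : ℕ} (hp : p.Prime) (hK : Kaw p G) {χ : G → ℂ} (hχ : IsIrrCharacter G χ)
    {m : ℕ} {e : ℤ} (he : e = 1 ∨ e = -1)
    (hs : ∑ᶠ u ∈ pSet p G, χ u = (e : ℂ) * (p : ℂ) ^ m * χ 1) :
    m ≤ 2 * (Nat.card G).factorization p ∧
      (m = 2 * (Nat.card G).factorization p → ∀ u ∈ pSet p G, χ u = χ 1) := by
  classical
  have := Fintype.ofFinite G
  have hd : ((charDegree χ : ℕ) : ℂ) = χ 1 := H686.CharKit.charDegree_cast (Core.isIrr_isCharacter hχ)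
  have hd0 : 0 < charDegree χ := H686.CharKit.charDegree_pos ⟨χ, hχ⟩
  set d := charDegree χ with hdd
  have hnorm : ∀ x : G, ‖χ x‖ ≤ d := fun x =>
    SchurBound.norm_le (Core.isIrr_isCharacter hχ) hd.symm x
  have hcard : ((univ.filter (· ∈ pSet p G)).card : ℝ) = (p : ℝ) ^ (2 * (Nat.card G).factorization p) := by
    have h1 := hK.card
    rw [Set.ncard_eq_toFinset_card'] at h1
    have h2 : (univ.filter (· ∈ pSet p G)).card = p ^ (2 * (Nat.card G).factorization p) := by
      rw [← h1]
      congr 1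
      ext x
      simp
    exact_mod_cast h2
  rw [finsum_pSet] at hs
  have heC : ‖(e : ℂ)‖ = 1 := by rcases he with rfl | rfl <;> simp
  have hp1 : (1 : ℝ) < p := by exact_mod_cast hp.one_lt
  have hdR : (0 : ℝ) < d := by exact_mod_cast hd0
  have hle : (p : ℝ) ^ m * d ≤ (p : ℝ) ^ (2 * (Nat.card G).factorization p) * d := by
    have h1 : ‖∑ u ∈ univ.filter (· ∈ pSet p G), χ u‖ ≤ (univ.filter (· ∈ pSet p G)).card * (d : ℝ) := by
      refine (norm_sum_le _ _).trans ?_
      refine (Finset.sum_le_sum fun u _ => hnorm u).trans ?_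
      rw [Finset.sum_const, nsmul_eq_mul]
    rw [hs, norm_mul, norm_mul, heC, one_mul, norm_pow, Complex.norm_natCast, ← hd,
      Complex.norm_natCast, hcard] at h1
    exact h1
  refine ⟨(pow_le_pow_iff_right₀ hp1).1 (le_of_mul_le_mul_right hle hdR), fun hm u hu => ?_⟩
  -- equality
  have hsum : ∑ u ∈ univ.filter (· ∈ pSet p G), ((d : ℝ) - ((e : ℂ) * χ u).re) = 0 := by
    rw [Finset.sum_sub_distrib, Finset.sum_const, nsmul_eq_mul, hcard, ← Complex.re_sum, ← Finset.mul_sum, hs,
      hm, ← hd]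
    have he2 : (e : ℂ) * (e * (p : ℂ) ^ (2 * (Nat.card G).factorization p) * (d : ℂ))
        = (((p : ℝ) ^ (2 * (Nat.card G).factorization p) * d : ℝ) : ℂ) := by
      rcases he with rfl | rfl <;> push_cast <;> ring
    rw [he2, Complex.ofReal_re]
    ring
  have hnn : ∀ u ∈ univ.filter (· ∈ pSet p G), 0 ≤ (d : ℝ) - ((e : ℂ) * χ u).re := by
    intro u _
    have h1 := (Complex.re_le_norm ((e : ℂ) * χ u))
    rw [norm_mul, heC, one_mul] at h1
    linarith [hnorm u]
  have hall := (Finset.sum_eq_zero_iff_of_nonneg hnn).1 hsum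
  have h1mem : (1 : G) ∈ univ.filter (· ∈ pSet p G) := by
    rw [mem_filter]
    exact ⟨mem_univ _, 0, by simp⟩
  have he1 : e = 1 := by
    rcases he with h | h
    · exact h
    · exfalso
      have h1 := hall 1 h1mem
      rw [h, ← hd] at h1
      simp at h1
      linarith
  have h2 := hall u (mem_filter.2 ⟨mem_univ _, hu⟩)
  rw [he1, Int.cast_one, one_mul] at h2
  have h3 : (χ u).re = d := by linarith
  have h4 : (χ u).im = 0 := by
    have h5 := Complex.sq_norm (χ u)
    rw [Complex.normSq_apply] at h5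
    have h6 := hnorm u
    have h7 := norm_nonneg (χ u)
    nlinarith [mul_self_nonneg (χ u).im]
  rw [← hd]
  apply Complex.ext
  · rw [h3]; simp
  · rw [h4]; simp

/-- An irreducible character with exactly one class of zeros whose degree is divisible by `|G|_p`. -/
theorem OneZero.dvd_of_degree [Finite G] {p : ℕ} (hp : p.Prime) (hpG : p ∣ Nat.card G) {χ : G → ℂ}
    (hχ : IsIrrCharacter G χ) (h0 : OneZero χ)
    (hdeg : p ^ (Nat.card G).factorization p ∣ charDegree χ) :
    (pSet p G).ncard - 1 ∣ Nat.card G := by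
  classical
  have := Fintype.ofFinite G
  have : Fact p.Prime := ⟨hp⟩
  have hvan : ∀ y : G, p ∣ orderOf y → χ y = 0 := by
    intro y hy
    have hd : ((charDegree χ : ℕ) : ℂ) = χ 1 :=
      H686.CharKit.charDegree_cast (Core.isIrr_isCharacter hχ)
    obtain ⟨n, ρ, hρ, rfl⟩ := hχ
    rw [Representation.char_one] at hd
    have h2 : charDegree ρ.character = Module.finrank ℂ (Fin n → ℂ) := by exact_mod_cast hd
    refine S0165.result ρ p ((Nat.card G).factorization p) hp (Nat.ordProj_dvd _ _)
      (Nat.pow_succ_factorization_not_dvd Nat.card_pos.ne' hp) ?_ y hy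
    rw [← h2]
    exact hdeg
  obtain ⟨x, hx0, hx⟩ := h0
  obtain ⟨u, hu⟩ := exists_prime_orderOf_dvd_card' p hpG
  have hxu : IsConj x u := hx u (hvan u (by rw [hu]))
  have hset : pSet p G = insert 1 {y : G | IsConj u y} := by
    ext y
    rw [Set.mem_insert_iff, Set.mem_ofPred_eq]
    constructor
    · rintro ⟨k, hk⟩
      rcases Nat.eq_zero_or_pos k with rfl | hk0
      · left
        rw [pow_zero] at hk
        exact orderOf_eq_one_iff.1 hk
      · right
        exact hxu.symm.trans (hx y (hvan y (by rw [hk]; exact dvd_pow_self p hk0.ne')))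
    · rintro (rfl | h)
      · exact ⟨0, by simp⟩
      · obtain ⟨c, rfl⟩ := isConj_iff.1 h
        refine ⟨1, ?_⟩
        have h1 : orderOf (c * u * c⁻¹) = orderOf u := orderOf_injective (MulAut.conj c).toMonoidHom
          (MulAut.conj c).injective u
        rw [h1, hu, pow_one]
  have hnot : (1 : G) ∉ {y : G | IsConj u y} := by
    intro h
    have h1 : u = 1 := by
      obtain ⟨c, hc⟩ := isConj_iff.1 (show IsConj u 1 from h)
      have : u = c⁻¹ * 1 * c := by rw [← hc]; group
      simpa using this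
    rw [h1, orderOf_one] at hu
    exact hp.one_lt.ne hu
  rw [hset, Set.ncard_insert_of_notMem hnot (Set.toFinite _), Nat.add_sub_cancel,
    ← Nat.card_coe_set_eq]
  have h1 : Nat.card {y : G // IsConj u y} = (Subgroup.centralizer ({u} : Set G)).index :=
    (CentralCharacter.index_centralizer_eq_card u).symm
  exact (show Nat.card ↥{y : G | IsConj u y} = _ from h1) ▸ Subgroup.index_dvd_card _

/-- The congruence `e p^m ≡ p^k (mod r)` for the characters with exactly one class of zeros. -/
def Cong (p r k : ℕ) (G : Type u) [Group G] : Prop :=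
  ∀ χ : G → ℂ, IsIrrCharacter G χ → OneZero χ → ∀ (m : ℕ) (e : ℤ), (e = 1 ∨ e = -1) →
    ∑ᶠ u ∈ pSet p G, χ u = (e : ℂ) * (p : ℂ) ^ m * χ 1 → (r : ℤ) ∣ e * (p : ℤ) ^ m - (p : ℤ) ^ k

/-- **Closing criterion.**  `v` is the exponent of `p` in the group order. -/
theorem none_of_cong [Finite G] (hs : IsSimpleGroup G) {p : ℕ} (hp : p.Prime) {v : ℕ}
    (hv : (Nat.card G).factorization p = v) (hv0 : v ≠ 0) (hK : Kaw p G)
    (h0 : ¬ p ^ (2 * v) - 1 ∣ Nat.card G)
    (hmid : ∀ (m : ℕ) (e : ℤ), (e = 1 ∨ e = -1) → 0 < m → m < 2 * v →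
      (∀ r k : ℕ, Cong p r k G → (r : ℤ) ∣ e * (p : ℤ) ^ m - (p : ℤ) ^ k) → False)
    {χ : G → ℂ} (hχ : IsIrrCharacter G χ) : ¬ OneZero χ := by
  classical
  intro hz
  have := Fintype.ofFinite G
  have hd : ((charDegree χ : ℕ) : ℂ) = χ 1 := H686.CharKit.charDegree_cast (Core.isIrr_isCharacter hχ)
  have hd0 : 0 < charDegree χ := H686.CharKit.charDegree_pos ⟨χ, hχ⟩
  have hpG : p ∣ Nat.card G := by
    by_contra h
    rw [Nat.factorization_eq_zero_of_not_dvd h] at hv
    exact hv0 hv.symm
  obtain ⟨m, e, he, hsum⟩ := hK.sum χ hχ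
  obtain ⟨hmle, hmtop⟩ := hK.top hp hχ he hsum
  rw [hv] at hmle hmtop
  rcases Nat.eq_zero_or_pos m with hm0 | hm0
  · -- `m = 0`
    refine h0 ?_
    have h1 := OneZero.dvd_of_degree hp hpG hχ hz ?_
    · rwa [hK.card, hv] at h1
    · obtain ⟨z, hzz⟩ := frob hp hχ
      rw [hsum, hm0, pow_zero, mul_one, ← hd] at hzz
      have h2 : e * (charDegree χ : ℤ) = ((p ^ (Nat.card G).factorization p : ℕ) : ℤ) * z := by
        exact_mod_cast hzz
      have h3 : ((p ^ (Nat.card G).factorization p : ℕ) : ℤ) ∣ (charDegree χ : ℤ) := by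
        rcases he with rfl | rfl
        · exact ⟨z, by rw [← h2, one_mul]⟩
        · exact ⟨-z, by rw [mul_neg, ← h2]; ring⟩
      exact_mod_cast h3
  rcases Nat.lt_or_ge m (2 * v) with hlt | hge
  · exact hmid m e he hm0 hlt fun r k hrk => hrk χ hχ hz m e he hsum
  · -- `m = 2 v`
    have hall := hmtop (le_antisymm hmle hge)
    obtain ⟨u, hu⟩ := @exists_prime_orderOf_dvd_card' G _ _ p ⟨hp⟩ hpG
    have hu1 : χ u = χ 1 := hall u ⟨1, by rw [hu, pow_one]⟩
    set K := H686.CharKit.chKer (⟨χ, hχ⟩ : IrrCharacter G) with hKdef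
    have huK : u ∈ K := H686.CharKit.mem_chKer.2 hu1
    have hKtop : K = ⊤ := by
      rcases hs.eq_bot_or_eq_top_of_normal K inferInstance with h | h
      · exfalso
        rw [h, Subgroup.mem_bot] at huK
        rw [huK, orderOf_one] at hu
        exact hp.one_lt.ne hu
      · exact h
    obtain ⟨x, hx0, -⟩ := hz
    have hxK : x ∈ K := by rw [hKtop]; exact Subgroup.mem_top _
    have hx1 : χ x = χ 1 := H686.CharKit.mem_chKer.1 hxK
    rw [hx0, ← hd] at hx1
    have : (charDegree χ : ℂ) ≠ 0 := by exact_mod_cast hd0.ne'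
    exact this hx1.symm

end Cfsg.Agent.H730.OZ
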