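import Cfsg.Agent.H730.OZ.Asm
import Cfsg.Agent.H448.Van.Rows
import Cfsg.Agent.H279.OZ.Kaw
import Cfsg.Agent.Nodes.RGDTwAll

/-!
# S4842: the rows `E₆`, `E₇`, `²E₆` without hypotheses (helper730)
-/

set_option autoImplicit false

open Cfsg

namespace Cfsg.Agent.H730.OZ

universe u

theorem row_e6 {S : Type u} [Group S] [Finite S] (hs : IsSimpleGroup S) (h : Lie.IsoChevE6 S) : Row S := by
  obtain ⟨F, i1, i2, ⟨e⟩⟩ := h
  obtain ⟨p, hc⟩ := CharP.exists F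
  obtain ⟨a, hp, ha⟩ := FiniteField.card F p
  have : Fact p.Prime := ⟨hp⟩
  have hs' : IsSimpleGroup ↥(Lie.chevE6.group F) := (MulEquiv.isSimpleGroup_congr e).1 hs
  exact Row.congr e (Row.of_none (H448.Van.none_E6 hs' hp a.pos ha
    (H279.OZ.kaw_of_hasRGD hp (Nodes.RGDChev.hasRGD_E6 F p))))

theorem row_e7 {S : Type u} [Group S] [Finite S] (hs : IsSimpleGroup S) (h : Lie.IsoE7 S) : Row S := by
  obtain ⟨F, i1, i2, ⟨e⟩⟩ := h
  obtain ⟨p, hc⟩ := CharP.exists F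
  obtain ⟨a, hp, ha⟩ := FiniteField.card F p
  have : Fact p.Prime := ⟨hp⟩
  have hs' : IsSimpleGroup ↥(Lie.chevE7.group F) := (MulEquiv.isSimpleGroup_congr e).1 hs
  exact Row.congr e (Row.of_none (H448.Van.none_E7 hs' hp a.pos ha
    (H279.OZ.kaw_of_hasRGD hp (Nodes.RGDChev.hasRGD_E7 F p))))

theorem row_te6 {S : Type u} [Group S] [Finite S] (hs : IsSimpleGroup S) (h : Lie.Iso2E6 S) : Row S := by
  obtain ⟨K, i1, i2, q, hq, hK, ⟨e⟩⟩ := h
  obtain ⟨p, hc⟩ := CharP.exists K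
  obtain ⟨b, hp, hb⟩ := FiniteField.card K p
  obtain ⟨r, a, hr, ha, rfl⟩ := hq
  have hr' : r.Prime := hr.nat_prime
  have hrp : r = p := by
    have h1 : r ∣ p ^ (b : ℕ) := by
      rw [← hb, hK]
      exact (dvd_pow_self r ha.ne').trans (dvd_pow_self _ two_ne_zero)
    exact (Nat.prime_dvd_prime_iff_eq hr' hp).1 (hr'.dvd_of_dvd_pow h1)
  subst hrp
  have : Fact r.Prime := ⟨hr'⟩
  have hs' : IsSimpleGroup ↥(Lie.twistedE6 K (r ^ a)) := (MulEquiv.isSimpleGroup_congr e).1 hs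
  exact Row.congr e (Row.of_none (H448.Van.none_2E6 hs' hr' ha rfl hK
    (H279.OZ.kaw_of_hasRGD hr' (Nodes.RGDTwE6.hasRGD (hr'.isPrimePow.pow ha.ne') hK r))))

end Cfsg.Agent.H730.OZ
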