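import Cfsg.Agent.H845.OZ.RowOdd

/-!
# S4842: the odd-dimensional orthogonal groups (helper730)
-/

set_option autoImplicit false

open Cfsg

namespace Cfsg.Agent.H730.OZ

universe u

/-- The family `IsPOmegaOdd`. -/
theorem row_isPOmegaOdd_rest
    (h33 : ∀ {S : Type u} [Group S] [Finite S], IsSimpleGroup S → ∀ {F : Type} [Field F] [Fintype F],
      Fintype.card F = 3 → (S ≃* POmega F (quadFormOdd 3 F)) → Row S)
    (h3 : ∀ {S : Type u} [Group S] [Finite S], IsSimpleGroup S → ∀ {F : Type} [Field F] [Fintype F],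
      5 ≤ Fintype.card F → Odd (Fintype.card F) → (S ≃* POmega F (quadFormOdd 3 F)) → Row S)
    (h4 : ∀ {S : Type u} [Group S] [Finite S], IsSimpleGroup S → ∀ {F : Type} [Field F] [Fintype F],
      Odd (Fintype.card F) → (S ≃* POmega F (quadFormOdd 4 F)) → Row S)
    (h5 : ∀ {S : Type u} [Group S] [Finite S], IsSimpleGroup S → ∀ {F : Type} [Field F] [Fintype F] {n : ℕ}, 5 ≤ n →
      Odd (Fintype.card F) → (S ≃* POmega F (quadFormOdd n F)) → Row S)
    {S : Type u} [Group S] [Finite S] (hs : IsSimpleGroup S) (h : IsPOmegaOdd S) : Row S := by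
  refine Cfsg.Agent.H845.OZ.row_isPOmegaOdd (fun hs' F _ _ ho e => ?_) h4 h5 hs h
  rcases Nat.lt_or_ge (Fintype.card F) 5 with h6 | h6
  · have h7 : Fintype.card F = 3 := by
      have h8 : 1 < Fintype.card F := Fintype.one_lt_card
      obtain ⟨k, hk⟩ := ho
      omega
    exact h33 hs' h7 e
  · exact h3 hs' h6 ho e

end Cfsg.Agent.H730.OZ
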