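import Cfsg.Agent.S0000
import Cfsg.Agent.H730.OZ.Known
import Cfsg.Agent.H730.OZ.Alt
import Cfsg.Agent.H730.OZ.Exc
import Cfsg.Agent.H730.OZ.FamOdd
import Cfsg.Agent.H366.OZ.SpFinal
import Cfsg.Agent.H670.OneZ.RowG
import Cfsg.Agent.H876.OZU.Psu
import Cfsg.Agent.H530.OZ.RowF
import Cfsg.Agent.H128.OZ.PlusDone
import Cfsg.Agent.H328.OZ.OSevenThree
import Cfsg.Agent.H448.Van.RowE8
import Cfsg.Agent.H224.OZ.Sz
import Cfsg.Agent.H956.OZ.Ree
import Cfsg.Agent.H289.OZ.Tits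
import Cfsg.Agent.H654.OZ.TwF4
import Cfsg.Agent.H866.OZ.RowD4c
import Cfsg.Agent.H849.OZ.RowSpor
import Cfsg.Agent.H355.GT.Final
import Cfsg.Agent.H205.OZ.Row
import Cfsg.Agent.H320.OZ.RowF4All

/-!
# S4842: all rows, modulo the structure `Open` (helper730)
-/

set_option autoImplicit false

open Cfsg

namespace Cfsg.Agent.H730.OZ

universe u

/-- The rows not yet landed. -/
structure Open : Prop where
  om3 : ∀ {S : Type u} [Group S] [Finite S], IsSimpleGroup S → ∀ {F : Type} [Field F] [Fintype F],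
      5 ≤ Fintype.card F → Odd (Fintype.card F) → (S ≃* POmega F (quadFormOdd 3 F)) → Row S
  om4 : ∀ {S : Type u} [Group S] [Finite S], IsSimpleGroup S → ∀ {F : Type} [Field F] [Fintype F],
      Odd (Fintype.card F) → (S ≃* POmega F (quadFormOdd 4 F)) → Row S

/-- All rows. -/
theorem rows_of (H : Open.{u}) : Rows.{u} where
  alt := fun _ h => row_alternating h
  psl := fun hs h => Cfsg.Agent.H670.OneZ.row_isPSL_all hs h
  psp := fun hs h => Cfsg.Agent.H366.OZ.row_isPSp hs h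
  psu := fun hs h => Cfsg.Agent.H876.OZU.row_isPSU hs h
  oodd := fun hs h => row_isPOmegaOdd_rest
    (fun hs' _ _ _ hF e => Cfsg.Agent.H328.OZ.OSevenThree.row_o7_3 hs' hF e) H.om3 H.om4
    (fun hs' _ _ _ _ hn ho e => Cfsg.Agent.H205.OZ.row_omega_odd hs' hn ho e) hs h
  oplus := fun hs h => Cfsg.Agent.H128.OZ.row_pomegaPlus hs h
  ominus := fun hs h => Cfsg.Agent.H530.OZ.row_isPOmegaMinus hs h
  g2 := fun hs h => Cfsg.Agent.H355.GT.row_g2 hs h
  f4 := fun hs h => Cfsg.Agent.H320.OZ.row_F4 hs h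
  e6 := fun hs h => row_e6 hs h
  e7 := fun hs h => row_e7 hs h
  e8 := fun hs h => Cfsg.Agent.H448.Van.row_e8 hs h
  te6 := fun hs h => row_te6 hs h
  td4 := fun hs h => Cfsg.Agent.H866.OZ.row_td4 hs h
  sz := fun hs h => Cfsg.Agent.H224.OZ.row_sz hs h
  ree := fun _ h => Cfsg.Agent.H956.OZ.Ree.row_ree h
  tf4 := fun _ h => Cfsg.Agent.H654.OZ.row_TwF4 h
  tits := fun hs h => Cfsg.Agent.H289.OZ.row_tits hs h
  spor := fun hs h => Cfsg.Agent.H849.OZ.RowSpor.row_sporadic (fun _ _ _ _ => Cfsg.Agent.S0000.result) hs h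

end Cfsg.Agent.H730.OZ
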